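import Cfsg.Agent.CoOneType.Gen
import Cfsg.Agent.H136.Gen2.Cox
import Cfsg.Agent.FastGrp
import Cfsg.Agent.Prune
set_option linter.all false
prune_inst 0x7f00000000000000000000000000000000000000000000000000000000000000000000000000000000000000000000000000000000000000000000000000000000000000000000000000000000000000003fffffffffffffffffffffffffffbeffbdffffffff
open scoped Cfsg.Agent.FastGrp

/-!
# 2-generation of `Co₁` (helper136)

With the ten letters `s t x y w d e f g h` of the presentation `P957`: `L₃(2) = ⟨x, y⟩` commutes with `w, d, e, f`,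
`x` commutes with `g`, and `Co₁ = ⟨(x y⁻¹) (w d e f), x g⟩`.
-/

set_option autoImplicit false

namespace Cfsg.Agent.H136.Gen2.Co1

open Subgroup Cfsg.Agent.CoOneType Cfsg.Agent.CoOneType.Model

theorem r_s : s = x * y⁻¹ * x * y⁻¹ * x⁻¹ * y⁻¹ := by
  have h := rel (u := [0]) (v := [2, 5, 2, 5, 3, 5]) (by decide +kernel)
  simpa [val, e, mul_assoc, s, t, x, y, w, d, e', f, g, Model.h, pr_inv] using h

theorem r_t : t = x * y * x * y⁻¹ * x * y⁻¹ := by
  have h := rel (u := [1]) (v := [2, 4, 2, 5, 2, 5]) (by decide +kernel)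
  simpa [val, e, mul_assoc, s, t, x, y, w, d, e', f, g, Model.h, pr_inv] using h

theorem r_h : Model.h = g * y * g * y * g * t * y := by
  have h := rel (u := [11]) (v := [10, 4, 10, 4, 10, 1, 4]) (by decide +kernel)
  simpa [val, e, mul_assoc, s, t, x, y, w, d, e', f, g, Model.h, pr_inv] using h

theorem r_u : (w * d * e' * f) ^ 5 = 1 := by
  have h := rel (u := [6, 7, 8, 9, 6, 7, 8, 9, 6, 7, 8, 9, 6, 7, 8, 9, 6, 7, 8, 9]) (v := []) (by decide +kernel)
  simpa [val, e, mul_assoc, s, t, x, y, w, d, e', f, g, Model.h, pr_inv, pow_succ] using h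

/-- the chain `g, f, e, d, w` -/
def ch : ℕ → Spor.Co1
  | 0 => g | 1 => f | 2 => e' | 3 => d | _ => w

theorem braid_of {G : Type*} [Group G] {x y : G} (hx : x * x = 1) (hy : y * y = 1) (h : (x * y) ^ 3 = 1) :
    y * x * y = x * y * x := by
  have e1 : x⁻¹ = x := inv_eq_of_mul_eq_one_left hx
  have e2 : y⁻¹ = y := inv_eq_of_mul_eq_one_left hy
  have h3 : (x * y * x) * (y * x * y) = 1 := by
    rw [← h]; simp only [pow_succ, pow_zero, one_mul, mul_assoc]
  have := eq_inv_of_mul_eq_one_left h3
  rw [mul_inv_rev, mul_inv_rev, e1, e2] at this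
  rw [this, mul_assoc]

theorem chRel : H346.CoxA.Rel 5 ch where
  sq i hi := by
    interval_cases i
    · exact p957.g2
    · exact p957.f2
    · exact p957.e2
    · exact p957.d2
    · exact p957.w2
  braid i hi := by
    have hi' : i < 4 := by omega
    interval_cases i
    · exact braid_of p957.f2 p957.g2 p957.fg
    · exact braid_of p957.e2 p957.f2 p957.ef
    · exact braid_of p957.d2 p957.e2 p957.de
    · exact braid_of p957.w2 p957.d2 p957.wd
  comm i j hij hj := by
    interval_cases j
    · omega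
    · omega
    · obtain rfl : i = 0 := by omega
      exact p957.eg.symm.eq
    · have : i < 2 := by omega
      interval_cases i
      · exact p957.dg.symm.eq
      · exact p957.df.symm.eq
    · have : i < 3 := by omega
      interval_cases i
      · exact p957.wg.symm.eq
      · exact p957.wf.symm.eq
      · exact p957.we.symm.eq

theorem two_gen : ∃ a b : Spor.Co1, closure ({a, b} : Set Spor.Co1) = ⊤ := by
  refine ⟨(x * y⁻¹) * (w * d * e' * f), x * g, ?_⟩
  set H := closure ({(x * y⁻¹) * (w * d * e' * f), x * g} : Set Spor.Co1) with hH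
  have h1 : (x * y⁻¹) * (w * d * e' * f) ∈ H := subset_closure (Set.mem_insert _ _)
  have h2 : x * g ∈ H := subset_closure (Set.mem_insert_of_mem _ rfl)
  have hcx : Commute x (w * d * e' * f) :=
    ((p957.wx.symm.mul_right p957.dx.symm).mul_right p957.ex.symm).mul_right p957.fx.symm
  have hcy : Commute y (w * d * e' * f) :=
    ((p957.wy.symm.mul_right p957.dy.symm).mul_right p957.ey.symm).mul_right p957.fy.symm
  have hc : (x * y⁻¹) * (w * d * e' * f) = (w * d * e' * f) * (x * y⁻¹) := (hcx.mul_left hcy.inv_left).eq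
  obtain ⟨hα, hβ⟩ := split_mem (m := 7) (n := 5) hc p957.xY r_u (by decide) h1
  obtain ⟨hx, hg⟩ := split_mem (m := 3) (n := 2) p957.gx.symm.eq p957.x3 (by rw [pow_two, p957.g2]) (by decide) h2
  have hy : y ∈ H := by
    have h3 : y = (x * y⁻¹)⁻¹ * x := by group
    rw [h3]; exact mul_mem (inv_mem hα) hx
  have hs : s ∈ H := by
    rw [r_s]
    exact mul_mem (mul_mem (mul_mem (mul_mem (mul_mem hx (inv_mem hy)) hx) (inv_mem hy)) (inv_mem hx)) (inv_mem hy)
  have ht : t ∈ H := by
    rw [r_t]
    exact mul_mem (mul_mem (mul_mem (mul_mem (mul_mem hx hy) hx) (inv_mem hy)) hx) (inv_mem hy)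
  have hh : Model.h ∈ H := by
    rw [r_h]
    exact mul_mem (mul_mem (mul_mem (mul_mem (mul_mem (mul_mem hg hy) hg) hy) hg) ht) hy
  have hch := chain_mem chRel (H := H) hg (by
    have inv : ∀ {z : Spor.Co1}, z * z = 1 → z⁻¹ = z := fun h => inv_eq_of_mul_eq_one_left h
    have h3 : H346.CoxA.Rel.r ch 5 = ((w * d * e' * f) * g)⁻¹ := by
      simp only [H346.CoxA.Rel.r, ch, mul_inv_rev, inv p957.w2, inv p957.d2, inv p957.e2, inv p957.f2, inv p957.g2,
        one_mul, mul_assoc]
    rw [h3]
    exact inv_mem (mul_mem hβ hg))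
  rw [eq_top_iff, ← Gen.closure_eq_top, closure_le]
  intro z hz
  simp only [Set.mem_insert_iff, Set.mem_singleton_iff] at hz
  rcases hz with rfl | rfl | rfl | rfl | rfl | rfl | rfl | rfl | rfl | rfl
  · exact hs
  · exact ht
  · exact hx
  · exact hy
  · exact hch 4 (by decide)
  · exact hch 3 (by decide)
  · exact hch 2 (by decide)
  · exact hch 1 (by decide)
  · exact hg
  · exact hh

theorem twoGen {G : Type*} [Group G] (h : Spor.IsoCo1 G) : ∃ x y : G, closure ({x, y} : Set G) = ⊤ :=
  two_gen_congr h.some two_gen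

end Cfsg.Agent.H136.Gen2.Co1

private theorem dce_59a2e9897dee : _root_.True := by
  try have : _root_.True := by simp only [_root_.Cfsg.Agent.H136.Gen2.Co1.ch.eq_1]
  try have : _root_.True := by simp only [_root_.Cfsg.Agent.H136.Gen2.Co1.ch.eq_5]
  try have : _root_.True := by simp only [_root_.Cfsg.Agent.H136.Gen2.Co1.ch.eq_2]
  try have : _root_.True := by simp only [_root_.Cfsg.Agent.H136.Gen2.Co1.ch.eq_3]
  try have : _root_.True := by simp only [_root_.Cfsg.Agent.H136.Gen2.Co1.ch.eq_4]
  exact _root_.True.intro
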