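import Cfsg.Agent.Th.Final
import Cfsg.Agent.H136.Gen2.Cox
import Cfsg.Agent.Th.Bit3W
import Cfsg.Agent.Prune
set_option linter.all false
prune_inst 0x7f00000000000000000000000000000000000000000000000000000000000000000000000000000000000000000000000000000000000000000000000000000000000000000000000000000000000000003fffffffffffffffffffffffffffbeffbdffffffff
open scoped Cfsg.Agent.FastGrp

/-!
# 2-generation of the Thompson group (helper136)

With `x = u⁻¹ d u³` (order 8, in `G₂(3) ≤ C(t)`) and `y = a b c` (order 4, in `C(s)`), the two elements `t x` and `s y`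
generate: `t` (order 3) and `x` are powers of `t x`, `s` (order 7) and `y` are powers of `s y`, and the generators are
short words in `s`, `x`, `y`.
-/

set_option autoImplicit false

namespace Cfsg.Agent.H136.Gen2.Th

open Cfsg.Agent.Th.Hom248 Cfsg.Agent.Th.Gen248 Subgroup

/-- a word as an element of the presented group -/
noncomputable def q (w : Wd) : Cfsg.Spor.Th := PresentedGroup.mk _ (toFree w)

theorem q_eq {v w : Wd} (h : Nat.beq (evN false v) (evN false w) = true) : q v = q w := by
  apply Cfsg.Agent.Th.Final.rho_injective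
  unfold q
  rw [rho_mk, rho_mk, evG_eq h]

/-- the product of a list of words -/
def pr : List Wd → Wd
  | [] => .one
  | [w] => w
  | w :: v :: l => .mul w (pr (v :: l))

theorem q_mul (v w : Wd) : q (.mul v w) = q v * q w := by
  unfold q; exact map_mul _ _ _

theorem q_inv (v : Wd) : q (.inv v) = (q v)⁻¹ := by
  unfold q; exact map_inv _ _

theorem q_one : q .one = 1 := by
  unfold q; exact map_one _

theorem q_pow (v : Wd) (n : ℕ) : q (.pow v n) = q v ^ n := by
  unfold q; exact map_pow _ _ _

theorem q_pr_mem {H : Subgroup Cfsg.Spor.Th} {l : List Wd} (h : ∀ w ∈ l, q w ∈ H) : q (pr l) ∈ H := by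
  induction l with
  | nil => exact q_one ▸ one_mem H
  | cons w l ih =>
    cases l with
    | nil => exact h w (by simp)
    | cons v l =>
      change q (.mul w (pr (v :: l))) ∈ H
      rw [q_mul]
      exact mul_mem (h w (by simp)) (ih fun z hz => h z (by simp at hz ⊢; tauto))

/-- `x = u⁻¹ d u³` -/
def x : Wd := pr [.g .U, .g .d, .g .u, .g .u, .g .u]
/-- `y = a b c` -/
def y : Wd := pr [.g .a, .g .b, .g .c]

/-- `x⁻¹` -/
def X : Wd := .inv x
/-- `y⁻¹` -/
def Y : Wd := .inv y
/-- `x⁴` -/
def x4 : Wd := .pow x 4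
/-- `x²` -/
def x2 : Wd := .pow x 2
/-- `y²` -/
def y2 : Wd := .pow y 2

set_option maxRecDepth 100000
set_option maxHeartbeats 400000

theorem c_tx : q (.mul (.g .t) x) = q (.mul x (.g .t)) := q_eq (by exact Cfsg.Agent.Th.Bit3.yes (by decide +kernel))
theorem c_sy : q (.mul (.g .s) y) = q (.mul y (.g .s)) := q_eq (by exact Cfsg.Agent.Th.Bit3.yes (by decide +kernel))
theorem o_t : q (.pow (.g .t) 3) = q .one := q_eq (by exact Cfsg.Agent.Th.Bit3.yes (by decide +kernel))
theorem o_s : q (.pow (.g .s) 7) = q .one := q_eq (by exact Cfsg.Agent.Th.Bit3.yes (by decide +kernel))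
theorem o_x : q (.pow x 8) = q .one := q_eq (by exact Cfsg.Agent.Th.Bit3.yes (by decide +kernel))
theorem o_y : q (.pow y 4) = q .one := q_eq (by exact Cfsg.Agent.Th.Bit3.yes (by decide +kernel))

theorem w_a : q (.g .a) = q x4 := q_eq (by exact Cfsg.Agent.Th.Bit3.yes (by decide +kernel))
theorem w_b : q (.g .b) = q (pr [y, x4, Y]) := q_eq (by exact Cfsg.Agent.Th.Bit3.yes (by decide +kernel))
theorem w_c : q (.g .c) = q (pr [y2, x4, y2]) := q_eq (by exact Cfsg.Agent.Th.Bit3.yes (by decide +kernel))
theorem w_d : q (.g .d) = q (pr [x2, Y, x2, y, x2, y, x2, Y, x2, Y]) := q_eq (by exact Cfsg.Agent.Th.Bit3.yes (by decide +kernel))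
theorem w_e : q (.g .e) = q (pr [x, y, X, y, x, y2, X, y, x, y2, X, y, x, y, X]) := q_eq (by exact Cfsg.Agent.Th.Bit3.yes (by decide +kernel))
theorem w_u : q (.g .u) = q (pr [.g .d, .g .S, X, .g .d, .g .s, x, .g .s, x, .g .d]) := q_eq (by exact Cfsg.Agent.Th.Bit3.yes (by decide +kernel))

theorem two_gen : ∃ x y : Cfsg.Spor.Th, closure ({x, y} : Set Cfsg.Spor.Th) = ⊤ := by
  refine ⟨q (.mul (.g .t) x), q (.mul (.g .s) y), ?_⟩
  set H : Subgroup Cfsg.Spor.Th := closure {q (.mul (.g .t) x), q (.mul (.g .s) y)} with hH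
  have h1 : q (.g .t) * q x ∈ H := by rw [← q_mul]; exact subset_closure (by simp)
  have h2 : q (.g .s) * q y ∈ H := by rw [← q_mul]; exact subset_closure (by simp)
  have e1 := c_tx; have e2 := c_sy; have e3 := o_t; have e4 := o_s; have e5 := o_x; have e6 := o_y
  rw [q_mul, q_mul] at e1 e2
  rw [q_pow, q_one] at e3 e4 e5 e6
  obtain ⟨ht, hx⟩ := split_mem e1 e3 e5 (by decide) h1
  obtain ⟨hs, hy⟩ := split_mem e2 e4 e6 (by decide) h2
  have hX : q X ∈ H := by unfold X; rw [q_inv]; exact inv_mem hx
  have hY : q Y ∈ H := by unfold Y; rw [q_inv]; exact inv_mem hy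
  have hx2 : q x2 ∈ H := by unfold x2; rw [q_pow]; exact pow_mem hx _
  have hx4 : q x4 ∈ H := by unfold x4; rw [q_pow]; exact pow_mem hx _
  have hy2 : q y2 ∈ H := by unfold y2; rw [q_pow]; exact pow_mem hy _
  have ha : q (.g .a) ∈ H := by rw [w_a]; exact hx4
  have hb : q (.g .b) ∈ H := by
    rw [w_b]; apply q_pr_mem; intro w hw; simp only [List.mem_cons, List.not_mem_nil, or_false] at hw
    rcases hw with rfl | rfl | rfl <;> assumption
  have hc : q (.g .c) ∈ H := by
    rw [w_c]; apply q_pr_mem; intro w hw; simp only [List.mem_cons, List.not_mem_nil, or_false] at hw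
    rcases hw with rfl | rfl | rfl <;> assumption
  have hd : q (.g .d) ∈ H := by
    rw [w_d]; apply q_pr_mem; intro w hw; simp only [List.mem_cons, List.not_mem_nil, or_false] at hw
    rcases hw with rfl | rfl | rfl | rfl | rfl | rfl | rfl | rfl | rfl | rfl <;> assumption
  have he : q (.g .e) ∈ H := by
    rw [w_e]; apply q_pr_mem; intro w hw; simp only [List.mem_cons, List.not_mem_nil, or_false] at hw
    rcases hw with rfl | rfl | rfl | rfl | rfl | rfl | rfl | rfl | rfl | rfl | rfl | rfl | rfl | rfl | rfl <;>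
      assumption
  have hS : q (.g .S) ∈ H := by
    have : q (.g .S) = (q (.g .s))⁻¹ := map_inv _ _
    rw [this]; exact inv_mem hs
  have hu : q (.g .u) ∈ H := by
    rw [w_u]; apply q_pr_mem; intro w hw; simp only [List.mem_cons, List.not_mem_nil, or_false] at hw
    rcases hw with rfl | rfl | rfl | rfl | rfl | rfl | rfl | rfl | rfl <;> assumption
  rw [eq_top_iff, ← PresentedGroup.closure_range_of, closure_le]
  rintro _ ⟨i, rfl⟩
  cases i
  exacts [ha, hb, hc, hd, he, hs, ht, hu]

theorem twoGen {G : Type*} [Group G] (h : Spor.IsoTh G) : ∃ x y : G, closure ({x, y} : Set G) = ⊤ :=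
  two_gen_congr h.some two_gen

end Cfsg.Agent.H136.Gen2.Th
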